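import Cfsg.Agent.OddHalf.CaseM.Sheet
import Cfsg.Agent.OddHalf.D8.SheetMap
import Cfsg.Agent.KFacts.Th.Main
import Cfsg.Agent.KFacts.Co1.Simp
import Cfsg.Agent.KFacts.Co1.SheetCo1
import Cfsg.Agent.KFacts.Co1.YTrick

-- merged: Cfsg.Agent.KFacts.Th.CaseM
section

/-!
# The sheet of case (M) of the Thompson group (helper950)

`sheetM_of_data` : `SheetM` for every group with helper756's `LargeSheet.Data`.
-/

set_option autoImplicit false

namespace Cfsg.Agent.KFacts.Th.CaseM

open Cfsg.Agent.KFacts.LargeSheet Cfsg.Agent.OddHalf.D8.Sheet Cfsg.Agent.OddHalf.CaseM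
open Cfsg.Agent.Th.Base Cfsg.Agent.Th.Word Cfsg.Agent.Th.KOracle Cfsg.Agent.Th.CStruct
  Cfsg.Agent.Th.COracleDef Cfsg.Agent.Th.IndexUpper
open Cfsg.Agent.KFacts.Th.Mask Cfsg.Agent.KFacts.Th.Struct

open scoped commutatorElement

universe u

section

variable {K : Type*} [Group K] {Q : Subgroup K} {z : K} {L : Type*} [Group L]
  {π : Subgroup.centralizer ({z} : Set K) →* L}

/-- normal subgroups of `C_K(z)` above `Q` -/
theorem normal_of_data [IsSimpleGroup L] (D : Data Q z L π) (N : Subgroup K)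
    (hN : N ≤ Subgroup.centralizer ({z} : Set K)) (hQ : Q ≤ N)
    (hn : ∀ p ∈ Subgroup.centralizer ({z} : Set K), ∀ n ∈ N, p * n * p⁻¹ ∈ N) :
    ⁅N, Subgroup.centralizer ({z} : Set K)⁆ ≤ Q ∨ N = Subgroup.centralizer ({z} : Set K) := by
  have h1 : (N.subgroupOf (Subgroup.centralizer ({z} : Set K))).Normal :=
    ⟨fun x hx g => hn g g.2 x hx⟩
  rcases (h1.map π D.surj).eq_bot_or_eq_top with h2 | h2
  · left
    have h3 : N ≤ Q := by
      intro x hx
      rw [← D.ker ⟨x, hN hx⟩]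
      have h4 : π ⟨x, hN hx⟩ ∈ (N.subgroupOf (Subgroup.centralizer ({z} : Set K))).map π := ⟨_, hx, rfl⟩
      rw [h2, Subgroup.mem_bot] at h4
      exact h4
    rw [Subgroup.commutator_le]
    intro x hx y hy
    have h4 : x * (y * x⁻¹ * y⁻¹) ∈ N := N.mul_mem hx (hn y hy _ (N.inv_mem hx))
    apply h3
    rw [commutatorElement_def]
    simpa only [mul_assoc] using h4
  · right
    apply le_antisymm hN
    intro x hx
    have h3 : π ⟨x, hx⟩ ∈ (N.subgroupOf (Subgroup.centralizer ({z} : Set K))).map π := by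
      rw [h2]; exact Subgroup.mem_top _
    obtain ⟨y, hy, hyx⟩ := h3
    have h4 : π (y⁻¹ * ⟨x, hx⟩) = 1 := by rw [map_mul, map_inv, hyx, inv_mul_cancel]
    have h5 : (y : K)⁻¹ * x ∈ N := hQ ((D.ker _).1 h4)
    have h6 : (y : K) * ((y : K)⁻¹ * x) ∈ N := N.mul_mem hy h5
    rwa [mul_inv_cancel_left] at h6

/-- a `p`-element of `C_K(z)` not central modulo `Q` -/
theorem exists_noncentral [Finite K] [IsSimpleGroup L] (D : Data Q z L π) {p : ℕ} (hp : p.Prime)
    (hpL : p ∣ Nat.card L) : ∃ x ∈ Subgroup.centralizer ({z} : Set K), ∃ y ∈ Subgroup.centralizer ({z} : Set K),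
    IsPGroup p (Subgroup.zpowers x) ∧ ⁅x, y⁆ ∉ Q := by
  have : Fact p.Prime := ⟨hp⟩
  have : Finite L := Finite.of_surjective π D.surj
  obtain ⟨b, hb⟩ := exists_prime_orderOf_dvd_card' p hpL
  obtain ⟨c, rfl⟩ := D.surj b
  obtain ⟨k, m, hm, hk⟩ := Nat.exists_eq_pow_mul_and_not_dvd (orderOf_pos c).ne' p hp.ne_one
  have h1 : π (c ^ m) ≠ 1 := by
    intro h2
    rw [map_pow] at h2
    exact hm (hb ▸ orderOf_dvd_of_pow_eq_one h2)
  -- the centre of `L` is trivial
  have hcen : ∃ y : L, π (c ^ m) * y ≠ y * π (c ^ m) := by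
    by_contra hcon
    push Not at hcon
    have h2 : π (c ^ m) ∈ Subgroup.center L := Subgroup.mem_center_iff.2 fun g => (hcon g).symm
    rcases (inferInstance : (Subgroup.center L).Normal).eq_bot_or_eq_top with h3 | h3
    · rw [h3, Subgroup.mem_bot] at h2
      exact h1 h2
    · obtain ⟨a, b, hab⟩ := D.nab
      have h4 : b ∈ Subgroup.center L := by rw [h3]; exact Subgroup.mem_top _
      exact hab (Subgroup.mem_center_iff.1 h4 a)
  obtain ⟨y0, hy0⟩ := hcen
  obtain ⟨y, rfl⟩ := D.surj y0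
  refine ⟨_, (c ^ m).2, _, y.2, ?_, ?_⟩
  · apply IsPGroup.of_card (n := k)
    rw [Nat.card_zpowers, Subgroup.orderOf_coe, orderOf_pow, hk]
    rw [Nat.gcd_eq_right (dvd_mul_left m (p ^ k)), Nat.mul_div_cancel]
    exact Nat.pos_of_ne_zero fun h => hm (h ▸ dvd_zero p)
  · intro h2
    have h3 : π ⁅c ^ m, y⁆ = 1 := (D.ker _).2 h2
    rw [map_commutatorElement, commutatorElement_eq_one_iff_mul_comm] at h3
    exact hy0 h3

/-- `SheetM` for `LargeSheet.Data` -/
theorem sheetM_of_data [Finite K] [IsSimpleGroup L] (D : Data Q z L π) {p w : ℕ} (hp : p.Prime) (hw : w < p)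
    (hpL : p ∣ Nat.card L) (hcard : Nat.card Q ≤ 2 ^ (2 * w + 1)) :
    SheetM (Subgroup.centralizer ({z} : Set K)) Q := by
  obtain ⟨x, hx, y, hy, hxp, hxy⟩ := exists_noncentral D hp hpL
  refine SheetM.of_quasisimple D.sheet (normal_of_data D) hp hw hcard hx hxp hy hxy ⟨0, ?_⟩ ⟨0, ?_⟩
  · rw [pow_zero, Subgroup.index_eq_one, MonoidHom.range_eq_top]
    intro α
    obtain ⟨k, hk⟩ := D.inner α
    exact ⟨k, hk.symm⟩
  · rw [pow_zero, Subgroup.relIndex_self]

end

/-- the sheet of case (M) of `Th` -/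
theorem sheetM : SheetM (Subgroup.centralizer ({gTh 1} : Set Cfsg.Spor.Th)) (Q0 gTh) := by
  have := Cfsg.Agent.KFacts.Th.Main.finite
  have hs : IsSimpleGroup (alternatingGroup (Fin 9)) := alternatingGroup.isSimpleGroup (by simp)
  obtain ⟨π, D⟩ := Cfsg.Agent.KFacts.Th.Main.exists_data Cfsg.Agent.KFacts.Th.Main.ctx
  refine sheetM_of_data D (p := 5) (w := 4) (by norm_num) (by norm_num) ?_ ?_
  · rw [nat_card_alternatingGroup, Nat.card_eq_fintype_card, Fintype.card_fin]
    decide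
  · rw [Cfsg.Agent.KFacts.Th.Main.ctx.cardQ]
    norm_num

section

variable {K K' : Type*} [Group K] [Group K']

/-- `SheetM` along an isomorphism -/
theorem sheetM_map (e : K ≃* K') {P R : Subgroup K} (h : SheetM P R) :
    SheetM (P.map e.toMonoidHom) (R.map e.toMonoidHom) := by
  have hinj : Function.Injective (Subgroup.map e.toMonoidHom) := Subgroup.map_injective e.injective
  have key : ∀ S : Subgroup K', ∃ S0 : Subgroup K, S = S0.map e.toMonoidHom := fun S =>
    ⟨S.comap e.toMonoidHom, by rw [Subgroup.map_comap_eq_self_of_surjective e.surjective]⟩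
  constructor
  · intro S hS hsub hp hne
    obtain ⟨S0, rfl⟩ := key S
    have hS0 : S0 ≤ P := (Subgroup.map_le_map_iff_of_injective e.injective).1 hS
    have h2 : ⁅S0, S0⁆ = S0 := hinj (by rw [Subgroup.map_commutator]; exact hp)
    have h3 : S0 ≠ ⊥ := by
      rintro rfl
      exact hne (Subgroup.map_bot _)
    have h1 : (S0.subgroupOf P).IsSubnormal := by
      let f : P →* P.map e.toMonoidHom := (e.subgroupMap P).toMonoidHom
      have h4 := hsub.comap f
      have h5 : ((S0.map e.toMonoidHom).subgroupOf (P.map e.toMonoidHom)).comap f = S0.subgroupOf P := by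
        ext x
        rw [Subgroup.mem_comap, Subgroup.mem_subgroupOf, Subgroup.mem_subgroupOf]
        show e (x : K) ∈ S0.map e.toMonoidHom ↔ _
        constructor
        · rintro ⟨y, hy, hyx⟩
          have h6 : y = x := e.injective hyx
          rw [← h6]; exact hy
        · intro hx; exact ⟨_, hx, rfl⟩
      rwa [h5] at h4
    rw [← Subgroup.map_commutator, h.big S0 hS0 h1 h2 h3]
  · obtain ⟨w, hw, hi⟩ := h.idx
    refine ⟨w, ?_, ?_⟩
    · exact (Nat.card_congr (e.subgroupMap R).toEquiv).symm.le.trans hw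
    · intro H hH hi2
      obtain ⟨H0, rfl⟩ := key H
      have hH0 : H0 ≤ P := (Subgroup.map_le_map_iff_of_injective e.injective).1 hH
      rw [Subgroup.relIndex_map_map_of_injective _ _ e.injective] at hi2
      rw [hi H0 hH0 hi2]
  · intro α hodd hα
    let β : MulAut K := (e.trans α).trans e.symm
    have hβ : ∀ x, e (β x) = α (e x) := fun x => by
      show e (e.symm (α (e x))) = _
      rw [MulEquiv.apply_symm_apply]
    have hpow : ∀ (n : ℕ) x, e ((β ^ n) x) = (α ^ n) (e x) := by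
      intro n
      induction n with
      | zero => intro x; rfl
      | succ n ih =>
        intro x
        rw [pow_succ, pow_succ, MulAut.mul_apply, MulAut.mul_apply, ih, hβ]
    have hord : orderOf β ∣ orderOf α := by
      apply orderOf_dvd_of_pow_eq_one
      apply MulEquiv.ext
      intro x
      apply e.injective
      rw [hpow, pow_orderOf_eq_one]
      rfl
    have h1 : β = 1 := h.odd β (hodd.of_dvd_nat hord) (fun x hx => by
      apply e.injective
      rw [hβ]
      exact hα _ ⟨x, hx, rfl⟩)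
    apply MulEquiv.ext
    intro y
    obtain ⟨x, rfl⟩ := e.surjective y
    rw [← hβ, h1]
    rfl

end

/-- the two sheets for `K ≅ Th` -/
theorem exists_sheets (K : Type u) [Group K] (e : Cfsg.Spor.IsoTh K) :
    ∃ (z : K) (P R : Subgroup K), SheetE z P R ∧ SheetM P R := by
  obtain ⟨e⟩ := e
  exact ⟨_, _, _, Cfsg.Agent.OddHalf.D8.SheetMap.sheetE_map e.symm Cfsg.Agent.KFacts.Th.Main.sheet,
    sheetM_map e.symm sheetM⟩

end Cfsg.Agent.KFacts.Th.CaseM

end

-- merged: Cfsg.Agent.KFacts.Co1.CaseM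
section

/-!
# The sheets of `Co1`: type (E) and case (M) (helper899)

`sheetE`, `sheetM`, `exists_sheets`.
-/

set_option autoImplicit false
open Cfsg
open scoped Pointwise commutatorElement

namespace Cfsg.Agent.KFacts.Co1.CaseM

open Cfsg.Agent.SporadicA.Co0Mono Cfsg.Agent.SporadicA.Co1Simple
open Cfsg.Agent.SporadicStructure.Co0Base (e8 e8_coe)
open Cfsg.Agent.CoOneType.SignFacts (sup mem_sup notMem_sup wt sup_mem)
open Cfsg.Agent.CoOneType.CentOctad (C0 mem_C0 sign_mem perm_mem)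
open Cfsg.Agent.CoOneType.ClosingFacts (exists_mk mk mk_eq mk_eq_one mk_mul mk_inv)
open Cfsg.Agent.KFacts.Co1.InCo1 Cfsg.Agent.KFacts.Co1.OctPts Cfsg.Agent.KFacts.Co1.RHat
open Cfsg.Agent.KFacts.Co1.RIrr Cfsg.Agent.KFacts.Co1.Perf
open Cfsg.Agent.OddHalf Cfsg.Agent.OddHalf.D8.Sheet Cfsg.Agent.OddHalf.CaseM

universe u

variable {o : golayCode}

/-- **The sheet of type (E) of `Co1`.** -/
theorem sheetE (ho : wt o = 8) :
    SheetE (mk (signCo0 o)) (Subgroup.centralizer ({mk (signCo0 o)} : Set Spor.Co1)) (RCo1 o) := by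
  refine SheetCo1.sheet ho fun hzP => ?_
  obtain ⟨k, h1, h2, h3⟩ := YTrick.ytrick ho
  have hw : k⁻¹ * mk (signCo0 o) * k ∈
      Subgroup.centralizer ({mk (signCo0 o)} : Set Spor.Co1) := by
    rw [Subgroup.mem_centralizer_singleton_iff]
    have e1 : k⁻¹ * (k * mk (signCo0 o) * k⁻¹ * mk (signCo0 o)) * k =
        mk (signCo0 o) * (k⁻¹ * mk (signCo0 o) * k) := by group
    have e2 : k⁻¹ * (mk (signCo0 o) * (k * mk (signCo0 o) * k⁻¹)) * k =
        k⁻¹ * mk (signCo0 o) * k * mk (signCo0 o) := by group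
    rw [← e1, ← e2, h1]
  exact ⟨k, Subgroup.mem_centralizer_singleton_iff.2 h1, h2, hw, fun β hβ => h3 hw β hβ⟩

/-- `C(z) / R` is simple. -/
theorem normal (ho : wt o = 8) (M : Subgroup Spor.Co1)
    (hM : M ≤ Subgroup.centralizer ({mk (signCo0 o)} : Set Spor.Co1)) (hR : RCo1 o ≤ M)
    (hn : ∀ p ∈ Subgroup.centralizer ({mk (signCo0 o)} : Set Spor.Co1), ∀ n ∈ M,
      p * n * p⁻¹ ∈ M) :
    M = RCo1 o ∨ M = Subgroup.centralizer ({mk (signCo0 o)} : Set Spor.Co1) := by
  have hMC : M.comap pr ≤ C0 o := by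
    rw [← comap_cent ho]
    exact Subgroup.comap_mono hM
  rcases Simp.simple ho (M.comap pr) hMC (by
      intro g hg m hm
      show pr (g * m * g⁻¹) ∈ M
      rw [map_mul, map_mul, map_inv]
      exact hn _ ((mem_cent ho g).2 hg) _ hm) (fun r hr => hR ⟨r, hr, rfl⟩) with h | h
  · left
    refine le_antisymm (fun x hx => ?_) hR
    obtain ⟨g, rfl⟩ := exists_mk x
    rcases h g hx with h1 | h1
    · exact ⟨g, h1, rfl⟩
    · refine ⟨_, h1, ?_⟩
      show mk (g * signCo0 allOne) = mk g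
      rw [mk_eq]
      exact Or.inr rfl
  · right
    refine le_antisymm hM fun x hx => ?_
    obtain ⟨g, rfl⟩ := exists_mk x
    exact h ((mem_cent ho g).1 hx)

/-- An element of order 5 not central modulo `R`. -/
theorem exists_five (ho : wt o = 8) :
    ∃ x ∈ Subgroup.centralizer ({mk (signCo0 o)} : Set Spor.Co1),
    ∃ y ∈ Subgroup.centralizer ({mk (signCo0 o)} : Set Spor.Co1),
      IsPGroup 5 (Subgroup.zpowers x) ∧ ⁅x, y⁆ ∉ RCo1 o := by
  classical
  have : Fact (Nat.Prime 5) := ⟨by norm_num⟩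
  obtain ⟨s, hs5⟩ := exists_prime_orderOf_dvd_card' (G := So o) 5 (by
    rw [card_So ho]; norm_num)
  have hs : (s : M24) ^ 5 = 1 := by
    rw [← Subgroup.coe_pow, ← hs5, pow_orderOf_eq_one, Subgroup.coe_one]
  have hs1 : (s : M24) ≠ 1 := by
    intro h
    have h1 : s = 1 := Subtype.ext h
    rw [h1, orderOf_one] at hs5
    norm_num at hs5
  -- `s` moves a point of `o`
  have hF : (s : M24) ∉ Fo o := by
    intro h
    have h2 := fo_sq ho h
    apply hs1
    calc (s : M24) = (s : M24) ^ 5 * ((s : M24) * (s : M24))⁻¹ * ((s : M24) * (s : M24))⁻¹ := by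
          group
      _ = 1 := by rw [hs, h2]; group
  rw [mem_Fo] at hF
  push Not at hF
  obtain ⟨a, ha, hab⟩ := hF
  set b := ((s : M24) : Equiv.Perm GolayPt) a with hb
  set a' := ((s : M24) : Equiv.Perm GolayPt).symm a with ha'
  have hsa' : ((s : M24) : Equiv.Perm GolayPt) a' = a := Equiv.apply_symm_apply _ _
  obtain ⟨d, hdo, hd⟩ : ∃ d ∈ sup o, d ∉ ({a, a'} : Finset GolayPt) := by
    by_contra hcon
    push Not at hcon
    have h1 : sup o ⊆ {a, a'} := hcon
    have h2 := Finset.card_le_card h1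
    have h3 := Finset.card_le_two (a := a) (b := a')
    have h4 : (sup o).card = 8 := ho
    omega
  rw [Finset.mem_insert, Finset.mem_singleton, not_or] at hd
  obtain ⟨c, -, hc⟩ := exists_two ho ha hdo (Ne.symm hd.1)
  have hcm : ∀ q ∈ sup o, (q ∈ sup c ↔ q = a ∨ q = d) := by
    intro q hq
    have h1 : q ∈ sup c ∩ sup o ↔ q ∈ ({a, d} : Finset GolayPt) := by rw [hc]
    rw [Finset.mem_inter, Finset.mem_insert, Finset.mem_singleton] at h1
    exact ⟨fun h => h1.1 ⟨h, hq⟩, fun h => (h1.2 h).1⟩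
  have hcm' : ∀ q ∈ sup o, (q ∈ sup (wordPerm (s : M24) c) ↔
      q = b ∨ q = ((s : M24) : Equiv.Perm GolayPt) d) := by
    intro q hq
    obtain ⟨q', rfl⟩ : ∃ q', ((s : M24) : Equiv.Perm GolayPt) q' = q :=
      ⟨_, Equiv.apply_symm_apply _ q⟩
    rw [mem_sup_wordPerm, hcm q' ((So_apply s.2 q').1 hq), hb,
      (((s : M24) : Equiv.Perm GolayPt)).injective.eq_iff,
      (((s : M24) : Equiv.Perm GolayPt)).injective.eq_iff]
  have hsum : ∀ q ∈ sup o, q ∈ sup (wordPerm (s : M24) c + c) →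
      q ∈ ({a, d, b, ((s : M24) : Equiv.Perm GolayPt) d} : Finset GolayPt) := by
    intro q hq h
    rw [OctPts.sup_add, Finset.mem_symmDiff, hcm q hq, hcm' q hq] at h
    simp only [Finset.mem_insert, Finset.mem_singleton]
    tauto
  refine ⟨mk (permCo0 (s : M24)), (mem_cent ho _).2 (perm_mem s.2), mk (signCo0 c),
    (mem_cent ho _).2 (sign_mem o c), ?_, ?_⟩
  · rintro ⟨x, hx⟩
    obtain ⟨i, rfl⟩ := Subgroup.mem_zpowers_iff.1 hx
    refine ⟨1, Subtype.ext ?_⟩
    show (mk (permCo0 (s : M24)) ^ i) ^ (5 ^ 1) = 1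
    have h1 : mk (permCo0 (s : M24)) ^ 5 = 1 := by
      show (pr (permCo0 (s : M24))) ^ 5 = 1
      rw [← map_pow, ← map_pow, hs, map_one, map_one]
    rw [← zpow_natCast, ← zpow_mul, mul_comm, zpow_mul, zpow_natCast, pow_one, h1, one_zpow]
  · have h1 : ⁅mk (permCo0 (s : M24)), mk (signCo0 c)⁆ =
        mk (signCo0 (wordPerm (s : M24) c + c)) := by
      rw [commutatorElement_def, ← mk_inv, ← mk_inv, ← mk_mul, ← mk_mul, ← mk_mul,
        perm_mul_sign_mul_inv, signCo0_inv, ← signCo0_add]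
    rw [h1]
    apply sign_notMem_RCo1
    · refine ⟨a, ?_, ha⟩
      rw [OctPts.sup_add, Finset.mem_symmDiff, hcm a ha, hcm' a ha]
      right
      refine ⟨Or.inl rfl, ?_⟩
      rintro (h | h)
      · exact hab h.symm
      · apply hd.2
        rw [ha', h, Equiv.symm_apply_apply]
    · by_contra hcon
      push Not at hcon
      have h2 : sup o ⊆ {a, d, b, ((s : M24) : Equiv.Perm GolayPt) d} := by
        intro q hq
        exact hsum q hq (by_contra fun h => hcon q h hq)
      have h3 := Finset.card_le_card h2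
      have h4 := Finset.card_le_four (a := a) (b := d) (c := b)
        (d := ((s : M24) : Equiv.Perm GolayPt) d)
      have h5 : (sup o).card = 8 := ho
      omega

/-- **The sheet of case (M) of `Co1`.** -/
theorem sheetM (ho : wt o = 8) :
    SheetM (Subgroup.centralizer ({mk (signCo0 o)} : Set Spor.Co1)) (RCo1 o) := by
  obtain ⟨x, hx, y, hy, hxp, hxy⟩ := exists_five ho
  refine SheetM.of_quasisimple (sheetE ho) (p := 5) (w := 4) ?_ (by norm_num) (by norm_num) ?_
    hx hxp hy hxy ⟨0, ?_⟩ ⟨0, ?_⟩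
  · intro M hM hR hn
    rcases normal ho M hM hR hn with h | h
    · left
      rw [h, Subgroup.commutator_le]
      intro r hr y hy
      have h2 := (sheetE ho).Rn y hy _ ((RCo1 o).inv_mem hr)
      rw [commutatorElement_def]
      have h3 : r * y * r⁻¹ * y⁻¹ = r * (y * r⁻¹ * y⁻¹) := by group
      rw [h3]
      exact (RCo1 o).mul_mem hr h2
    · exact Or.inr h
  · rw [YBig.card_R ho]; norm_num
  · rw [SheetCo1.range_conj, Subgroup.index_top, pow_zero]
  · rw [pow_zero, Subgroup.relIndex_self]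

/-- The two sheets for `K ≅ Co1`. -/
theorem exists_sheets (K : Type u) [Group K] (e : Spor.IsoCo1 K) :
    ∃ (z : K) (P R : Subgroup K), SheetE z P R ∧ SheetM P R := by
  obtain ⟨e⟩ := e
  obtain ⟨o, ho⟩ := Cfsg.Agent.CoOneType.ClosingCo1.exists_octad
  exact ⟨_, _, _, D8.SheetMap.sheetE_map e.symm (sheetE ho),
    Cfsg.Agent.KFacts.Th.CaseM.sheetM_map e.symm (sheetM ho)⟩

end Cfsg.Agent.KFacts.Co1.CaseM

end
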